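import Mathlib

/-!
# Local rings along an affine open immersion (towards S8971)
-/

set_option autoImplicit false
set_option linter.style.haveILetI false
universe u

namespace Groth.Agent.H78.QFAss

open AlgebraicGeometry CategoryTheory

/-- if `Spec S → Spec R` is an open immersion then `R_{q ∩ R} → S_q` is bijective for every prime
`q` of `S` -/
theorem localRingHom_bijective_of_isOpenImmersion {R S : Type u} [CommRing R] [CommRing S]
    (f : R →+* S) (hf : IsOpenImmersion (Spec.map (CommRingCat.ofHom f)))
    (q : Ideal S) [hq : q.IsPrime] :
    Function.Bijective (Localization.localRingHom (q.comap f) q f rfl) := by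
  let p : PrimeSpectrum S := ⟨q, hq⟩
  haveI := hf
  have h1 : IsIso ((Spec.map (CommRingCat.ofHom f)).stalkMap p) := by
    have := fun x : ↥(Spec (CommRingCat.of S)) =>
      (inferInstance : IsIso ((Spec.map (CommRingCat.ofHom f)).stalkMap x))
    exact this p
  have h2 : IsIso (CommRingCat.ofHom (Localization.localRingHom
      (p.comap (CommRingCat.ofHom f).hom).asIdeal p.asIdeal (CommRingCat.ofHom f).hom rfl)) :=
    ((MorphismProperty.isomorphisms CommRingCat).arrow_mk_iso_iff
      (Scheme.arrowStalkMapSpecIso (CommRingCat.ofHom f) p)).mp h1
  rw [ConcreteCategory.isIso_iff_bijective] at h2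
  exact h2

end Groth.Agent.H78.QFAss
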