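import Mathlib
import Groth.Prelude.Def_Disc

/-!
# Associated primes of `Hom_A(B, A)` as a `B`-module, `B` finite over Noetherian `A`
(towards S8971)
-/

set_option autoImplicit false
set_option linter.style.haveILetI false
universe u

namespace Groth.Agent.H78.QFAss

open Polynomial

variable (A B : Type u) [CommRing A] [CommRing B] [Algebra A B] [IsNoetherianRing A]
  [Module.Finite A B]

theorem comap_mem_of_mem_associatedPrimes_omega (q : Ideal B)
    (hq : q ∈ associatedPrimes B (Disc.Omega A B)) :
    q.comap (algebraMap A B) ∈ associatedPrimes A A := by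
  haveI : IsNoetherianRing B := IsNoetherianRing.of_finite A B
  obtain ⟨hqp, φ, hφ⟩ := (isAssociatedPrime_iff).mp hq
  haveI := hqp
  let N' : Submodule A A := LinearMap.range φ.toLinearMap
  have hann : q.comap (algebraMap A B) = Module.annihilator A N' := by
    ext a
    rw [Ideal.mem_comap, hφ, Submodule.mem_colon_singleton, Submodule.mem_bot,
      Module.mem_annihilator]
    constructor
    · rintro h ⟨_, x, rfl⟩
      have := congrArg (fun ψ : Disc.Omega A B => ψ.toLinearMap x) h
      simp only [Disc.Omega.smul_toLinearMap_apply, Disc.Omega.zero_toLinearMap,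
        LinearMap.zero_apply] at this
      apply Subtype.ext
      change a • φ.toLinearMap x = 0
      rw [← map_smul, Algebra.smul_def]
      exact this
    · intro h
      apply Disc.Omega.ext
      ext x
      have := congrArg Subtype.val (h ⟨φ.toLinearMap x, x, rfl⟩)
      change a • φ.toLinearMap x = 0 at this
      rw [Disc.Omega.smul_toLinearMap_apply, ← Algebra.smul_def, map_smul, this]
      rfl
  have hp : (q.comap (algebraMap A B)).IsPrime := Ideal.comap_isPrime _ _
  have hmin : q.comap (algebraMap A B) ∈ (Module.annihilator A N').minimalPrimes := by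
    rw [← hann, Ideal.minimalPrimes_eq_subsingleton_self]
    rfl
  have h1 : q.comap (algebraMap A B) ∈ associatedPrimes A N' :=
    Module.associatedPrimes.minimalPrimes_annihilator_subset_associatedPrimes A N' hmin
  exact associatedPrimes.subset_of_injective (f := N'.subtype) N'.injective_subtype h1

theorem mem_associatedPrimes_omega_of_comap_mem (q : Ideal B) [hq : q.IsPrime]
    (hp : q.comap (algebraMap A B) ∈ associatedPrimes A A) :
    q ∈ associatedPrimes B (Disc.Omega A B) := by
  haveI : IsNoetherianRing B := IsNoetherianRing.of_finite A B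
  obtain ⟨hpp, a₀, ha₀⟩ := (isAssociatedPrime_iff).mp hp
  haveI := hpp
  set p : Ideal A := q.comap (algebraMap A B) with hpdef
  -- a nonzero `A`-linear map `B ⧸ q → A ⧸ p`
  haveI : Module.Finite A (B ⧸ q) :=
    Module.Finite.of_surjective (Ideal.Quotient.mkₐ A q).toLinearMap Ideal.Quotient.mk_surjective
  have hns : ¬ Subsingleton ((B ⧸ q) →ₗ[A] (A ⧸ p)) := by
    rw [IsSMulRegular.subsingleton_linearMap_iff]
    rintro ⟨r, hr, hreg⟩
    have h1 : r • (1 : B ⧸ q) = 0 := Module.mem_annihilator.mp hr 1
    have h2 : r ∈ p := by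
      rw [hpdef, Ideal.mem_comap, ← Ideal.Quotient.eq_zero_iff_mem]
      rw [Algebra.smul_def, mul_one] at h1
      exact h1
    have h3 : r • (1 : A ⧸ p) = r • (0 : A ⧸ p) := by
      rw [smul_zero, Algebra.smul_def, mul_one, Ideal.Quotient.algebraMap_eq,
        Ideal.Quotient.eq_zero_iff_mem]
      exact h2
    exact one_ne_zero (hreg h3)
  rw [not_subsingleton_iff_nontrivial] at hns
  obtain ⟨lam, hlam⟩ := exists_ne (0 : (B ⧸ q) →ₗ[A] (A ⧸ p))
  -- the embedding `A ⧸ p → A`, `1 ↦ a₀`
  have hker : LinearMap.ker (LinearMap.toSpanSingleton A A a₀) = p := by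
    ext r
    rw [LinearMap.mem_ker, ha₀, Submodule.mem_colon_singleton, Submodule.mem_bot]
    rfl
  let iota : (A ⧸ p) →ₗ[A] A :=
    Submodule.liftQ p (LinearMap.toSpanSingleton A A a₀) (le_of_eq hker.symm)
  have hiota : Function.Injective iota := by
    rw [← LinearMap.ker_eq_bot]
    exact Submodule.ker_liftQ_eq_bot _ _ _ (le_of_eq hker)
  let φ : Disc.Omega A B := ⟨iota ∘ₗ lam ∘ₗ (Ideal.Quotient.mkₐ A q).toLinearMap⟩
  have hφ : ∀ x : B, φ.toLinearMap x = iota (lam (Ideal.Quotient.mk q x)) := fun x => rfl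
  refine (isAssociatedPrime_iff).mpr ⟨hq, φ, ?_⟩
  ext b
  rw [Submodule.mem_colon_singleton, Submodule.mem_bot]
  constructor
  · intro hb
    apply Disc.Omega.ext
    ext x
    rw [Disc.Omega.smul_toLinearMap_apply, hφ]
    have : Ideal.Quotient.mk q (b * x) = 0 :=
      Ideal.Quotient.eq_zero_iff_mem.mpr (Ideal.mul_mem_right _ _ hb)
    rw [this, map_zero, map_zero]
    rfl
  · intro hb
    by_contra hbq
    have hb0 : ∀ x : B, lam (Ideal.Quotient.mk q (b * x)) = 0 := by
      intro x
      apply hiota
      rw [map_zero, ← hφ, ← Disc.Omega.smul_toLinearMap_apply, hb]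
      rfl
    -- integrality of `b`
    have hint : IsIntegral A b := Algebra.IsIntegral.isIntegral b
    obtain ⟨P, hPm, hPe⟩ := hint
    have hPne : P.map (Ideal.Quotient.mk (q.comap (algebraMap A B))) ≠ 0 :=
      (hPm.map _).ne_zero
    obtain ⟨i, hi⟩ := Ideal.exists_coeff_mem_comap_sdiff_comap_of_root_mem_sdiff
      (I := q) (J := q ⊔ Ideal.span {b}) (f := algebraMap A B) le_sup_left
      (r := b) ⟨Ideal.mem_sup_right (Ideal.mem_span_singleton_self b), hbq⟩ hPne
      (by rw [hPe]; exact q.zero_mem)
    obtain ⟨hc1, hc2⟩ := hi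
    rw [SetLike.mem_coe, Ideal.mem_comap] at hc1
    obtain ⟨t, ht, u, hu, htu⟩ := Submodule.mem_sup.mp hc1
    obtain ⟨y, rfl⟩ := Ideal.mem_span_singleton'.mp hu
    apply hlam
    ext x
    obtain ⟨x, rfl⟩ := Ideal.Quotient.mk_surjective x
    have h5 : (P.coeff i) • lam (Ideal.Quotient.mk q x) = 0 := by
      have hal : algebraMap A (B ⧸ q) (P.coeff i) =
          Ideal.Quotient.mk q (algebraMap A B (P.coeff i)) := rfl
      rw [← map_smul, Algebra.smul_def, hal, ← map_mul, ← htu]
      have : Ideal.Quotient.mk q ((t + y * b) * x) = Ideal.Quotient.mk q (b * (y * x)) := by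
        rw [Ideal.Quotient.eq]
        have : (t + y * b) * x - b * (y * x) = t * x := by ring
        rw [this]
        exact Ideal.mul_mem_right _ _ ht
      rw [this, hb0]
    rw [Algebra.smul_def, Ideal.Quotient.algebraMap_eq] at h5
    rcases mul_eq_zero.mp h5 with h6 | h6
    · exfalso
      apply hc2
      rw [SetLike.mem_coe]
      exact Ideal.Quotient.eq_zero_iff_mem.mp h6
    · rw [h6]
      rfl

theorem mem_associatedPrimes_omega_iff (q : Ideal B) [hq : q.IsPrime] :
    q ∈ associatedPrimes B (Disc.Omega A B) ↔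
      q.comap (algebraMap A B) ∈ associatedPrimes A A :=
  ⟨comap_mem_of_mem_associatedPrimes_omega A B q,
    mem_associatedPrimes_omega_of_comap_mem A B q⟩

end Groth.Agent.H78.QFAss
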