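import Mathlib

/-!
# Associated primes of a base change along a local isomorphism (towards S8971)
-/

set_option autoImplicit false
set_option linter.style.haveILetI false
universe u

namespace Groth.Agent.H78.QFAss

open TensorProduct IsLocalRing

variable {R S : Type u} [CommRing R] [CommRing S] [Algebra R S]

/-- if `R_{q ∩ R} → S_q` is bijective, then `S_q` is the localisation of `R` at `q ∩ R` -/
theorem isLocalization_atPrime_of_bijective (q : Ideal S) [q.IsPrime]
    (hbij : Function.Bijective
      (Localization.localRingHom (q.comap (algebraMap R S)) q (algebraMap R S) rfl)) :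
    IsLocalization.AtPrime (Localization.AtPrime q) (q.comap (algebraMap R S)) := by
  let e₀ : Localization.AtPrime (q.comap (algebraMap R S)) ≃+* Localization.AtPrime q :=
    RingEquiv.ofBijective _ hbij
  let e : Localization.AtPrime (q.comap (algebraMap R S)) ≃ₐ[R] Localization.AtPrime q :=
    { e₀ with
      commutes' := fun r => by
        change Localization.localRingHom (q.comap (algebraMap R S)) q (algebraMap R S) rfl
          (algebraMap R _ r) = _
        rw [Localization.localRingHom_to_map, ← IsScalarTower.algebraMap_apply] }
  exact IsLocalization.isLocalization_of_algEquiv (q.comap (algebraMap R S)).primeCompl e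

variable [IsNoetherianRing R] [IsNoetherianRing S]

theorem mem_associatedPrimes_tensor_iff (W : Type u) [AddCommGroup W] [Module R W]
    (q : Ideal S) [hq : q.IsPrime]
    (hbij : Function.Bijective
      (Localization.localRingHom (q.comap (algebraMap R S)) q (algebraMap R S) rfl)) :
    q ∈ associatedPrimes S (S ⊗[R] W) ↔ q.comap (algebraMap R S) ∈ associatedPrimes R W := by
  haveI hloc := isLocalization_atPrime_of_bijective q hbij
  let Sq := Localization.AtPrime q
  let M := S ⊗[R] W
  let Mq := LocalizedModule q.primeCompl M
  let mk : M →ₗ[S] Mq := LocalizedModule.mkLinearMap q.primeCompl M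
  -- `W → M_q` is a localisation at `q ∩ R`
  have hb1 : IsBaseChange S (TensorProduct.mk R S W 1) := TensorProduct.isBaseChange R W S
  have hb2 : IsBaseChange Sq mk :=
    (isLocalizedModule_iff_isBaseChange q.primeCompl Sq mk).mp inferInstance
  have hb3 : IsBaseChange Sq ((mk.restrictScalars R) ∘ₗ (TensorProduct.mk R S W 1)) :=
    IsBaseChange.comp hb1 hb2
  haveI hl : IsLocalizedModule (q.comap (algebraMap R S)).primeCompl
      ((mk.restrictScalars R) ∘ₗ (TensorProduct.mk R S W 1)) :=
    (isLocalizedModule_iff_isBaseChange (q.comap (algebraMap R S)).primeCompl Sq _).mpr hb3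
  have h1 := Module.associatedPrimes.preimage_comap_associatedPrimes_eq_associatedPrimes_of_isLocalizedModule
    (M' := Mq) (q.comap (algebraMap R S)).primeCompl Sq
    ((mk.restrictScalars R) ∘ₗ (TensorProduct.mk R S W 1))
  have h2 := Module.associatedPrimes.preimage_comap_associatedPrimes_eq_associatedPrimes_of_isLocalizedModule
    (M' := Mq) q.primeCompl Sq mk
  have e1 : (maximalIdeal Sq).comap (algebraMap S Sq) = q :=
    Localization.AtPrime.under_maximalIdeal
  have e2 : (maximalIdeal Sq).comap (algebraMap R Sq) = q.comap (algebraMap R S) := by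
    rw [IsScalarTower.algebraMap_eq R S Sq, ← Ideal.comap_comap, e1]
  have m1 : maximalIdeal Sq ∈ associatedPrimes Sq Mq ↔
      q.comap (algebraMap R S) ∈ associatedPrimes R W := by
    rw [← h1, Set.mem_preimage, e2]
  have m2 : maximalIdeal Sq ∈ associatedPrimes Sq Mq ↔ q ∈ associatedPrimes S M := by
    rw [← h2, Set.mem_preimage, e1]
  exact m2.symm.trans m1

end Groth.Agent.H78.QFAss
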