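import Mathlib
import Groth.Prelude.Def_QFDual
import Groth.Agent.H78.QFAss.OpenImm
import Groth.Agent.H78.QFAss.Step1
import Groth.Agent.H78.QFAss.Step2

/-!
# Associated primes of the relative dualizing module of a quasi-finite map (S8971)
-/

set_option autoImplicit false
set_option linter.style.haveILetI false
universe u

namespace Groth.Agent.H78.QFAss

open TensorProduct

theorem main (A B' B : Type u) [CommRing A] [CommRing B'] [CommRing B] [IsNoetherianRing A]
    [IsNoetherianRing B] [Algebra A B'] [Algebra B' B] [Algebra A B] [IsScalarTower A B' B]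
    (hf : QFDual.IsQFFactor A B' B) :
    associatedPrimes B (QFDual.omega A B' B) =
      {q : Ideal B | q.IsPrime ∧ q.comap (algebraMap A B) ∈ associatedPrimes A A} := by
  haveI := hf.finite
  haveI : IsNoetherianRing B' := IsNoetherianRing.of_finite A B'
  have key : ∀ (q : Ideal B) [q.IsPrime], q ∈ associatedPrimes B (QFDual.omega A B' B) ↔
      q.comap (algebraMap A B) ∈ associatedPrimes A A := by
    intro q _
    have hbij := localRingHom_bijective_of_isOpenImmersion (algebraMap B' B) hf.isOpenImmersion q
    rw [mem_associatedPrimes_tensor_iff (Disc.Omega A B') q hbij,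
      mem_associatedPrimes_omega_iff A B' (q.comap (algebraMap B' B)), Ideal.comap_comap,
      ← IsScalarTower.algebraMap_eq]
  ext q
  constructor
  · intro hq
    haveI : q.IsPrime := hq.isPrime
    exact ⟨hq.isPrime, (key q).mp hq⟩
  · rintro ⟨hqp, hq⟩
    haveI := hqp
    exact (key q).mpr hq

end Groth.Agent.H78.QFAss
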